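import Cfsg.Prelude.Def_GeometricClasses

/-! Field subalgebras of matrix algebras over finite fields. -/

set_option autoImplicit false

namespace Cfsg.Agent.H98

open Matrix

variable {F : Type*} [Field F] [Fintype F] {n : ℕ}

theorem det_eq_one_of_sq_zero (N : Matrix (Fin n) (Fin n) F) (hN : N * N = 0) : (1 + N).det = 1 := by
  obtain ⟨p, hp⟩ := CharP.exists F
  have hpp : p.Prime := CharP.char_is_prime F p
  have h2 : ∀ k : ℕ, (1 + N) ^ k = 1 + (k : F) • N := by
    intro k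
    induction k with
    | zero => simp
    | succ k ih =>
      rw [pow_succ, ih, add_mul, one_mul, Matrix.smul_mul, mul_add, hN, add_zero, mul_one,
        Nat.cast_succ, add_smul, one_smul, add_comm ((k : F) • N) N, ← add_assoc]
  have h := congrArg Matrix.det (h2 p)
  rw [Matrix.det_pow, CharP.cast_eq_zero, zero_smul, add_zero, Matrix.det_one] at h
  have : Fact p.Prime := ⟨hpp⟩
  exact frobenius_inj F p (by simp only [frobenius_def, one_pow]; exact h)

theorem exists_functional {K L V : Type*} [Field K] [Field L] [Algebra K L] [AddCommGroup V] [Module K V]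
    (ρ : L →ₐ[K] Module.End K V) (U : Submodule K V) (hU : ∀ x : L, ∀ u ∈ U, ρ x u ∈ U) (w : V) (hw : w ∉ U) :
    ∃ φ : V →ₗ[K] L, φ w = 1 ∧ (∀ u ∈ U, φ u = 0) ∧ ∀ (x : L) (u : V), φ (ρ x u) = x * φ u := by
  letI : Module L V := Module.compHom V ρ.toRingHom
  have hsmul : ∀ (x : L) (u : V), x • u = ρ x u := fun x u => rfl
  haveI : IsScalarTower K L V := ⟨fun c x u => by rw [hsmul, hsmul, map_smul, LinearMap.smul_apply]⟩
  let U' : Submodule L V :=
    { carrier := U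
      add_mem' := fun ha hb => U.add_mem ha hb
      zero_mem' := U.zero_mem
      smul_mem' := fun x u hu => hU x u hu }
  obtain ⟨ψ, hψw, hψU⟩ := Submodule.exists_dual_map_eq_bot_of_notMem (p := U') (x := w) hw inferInstance
  have h0 : ∀ u ∈ U, ψ u = 0 := by
    intro u hu
    have : ψ u ∈ U'.map ψ := ⟨u, hu, rfl⟩
    rwa [hψU, Submodule.mem_bot] at this
  refine ⟨((ψ w)⁻¹ • ψ).restrictScalars K, inv_mul_cancel₀ hψw, fun u hu => ?_, fun x u => ?_⟩
  · show (ψ w)⁻¹ * ψ u = 0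
    rw [h0 u hu, mul_zero]
  · show (ψ w)⁻¹ * ψ (x • u) = x * ((ψ w)⁻¹ * ψ u)
    rw [map_smul, smul_eq_mul]; ring

/-- A transvection centralising `K₁` that does not normalise the larger field `K₂`. -/
theorem exists_not_normalizing {r : ℕ} (K₁ K₂ : Subalgebra F (Matrix (Fin n) (Fin n) F))
    (hle : K₁ ≤ K₂) (hinv : ∀ x ∈ K₁, x ≠ 0 → ∃ y ∈ K₁, x * y = 1)
    (hK : Cfsg.Geo.IsFieldSubalgebra r K₂) (hr : r < n) {k : Matrix (Fin n) (Fin n) F}
    (hk : k ∈ K₂) (hk1 : k ∉ K₁) :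
    ∃ t : GL (Fin n) F, t ∈ Cfsg.Geo.specialLinear (Fin n) F ∧
      (∀ x ∈ K₁, (t : Matrix (Fin n) (Fin n) F) * x = x * t) ∧
      t ∉ Cfsg.Geo.subalgebraNormalizer K₂ := by
  classical
  have hfield : IsField K₁ :=
    { exists_pair_ne := ⟨0, 1, fun h => by
        have hn : Nonempty (Fin n) := ⟨⟨0, by omega⟩⟩
        exact zero_ne_one (congrArg Subtype.val h : (0 : Matrix (Fin n) (Fin n) F) = 1)⟩
      mul_comm := fun a b => Subtype.ext (hK.comm _ (hle a.2) _ (hle b.2))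
      mul_inv_cancel := fun {a} ha => by
        obtain ⟨y, hy, h⟩ := hinv a.1 a.2 (fun h => ha (Subtype.ext h))
        exact ⟨⟨y, hy⟩, Subtype.ext h⟩ }
  letI : Field K₁ := hfield.toField
  let ρ : K₁ →ₐ[F] Module.End F (Fin n → F) :=
    ((Matrix.toLinAlgEquiv' : Matrix (Fin n) (Fin n) F ≃ₐ[F] Module.End F (Fin n → F)).toAlgHom).comp K₁.val
  have hρ : ∀ (x : K₁) (u : Fin n → F), ρ x u = (x : Matrix (Fin n) (Fin n) F) *ᵥ u := fun x u => rfl
  let v : Fin n → F := Pi.single ⟨0, by omega⟩ 1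
  have hv : v ≠ 0 := by simp [v]
  let ev : K₂ →ₗ[F] (Fin n → F) :=
    { toFun := fun x => (x : Matrix (Fin n) (Fin n) F) *ᵥ v
      map_add' := fun x y => Matrix.add_mulVec _ _ v
      map_smul' := fun c x => Matrix.smul_mulVec c (x : Matrix (Fin n) (Fin n) F) v }
  obtain ⟨w, hw⟩ : ∃ w, w ∉ LinearMap.range ev := by
    by_contra h
    push Not at h
    have h1 := LinearMap.finrank_range_le ev
    rw [show LinearMap.range ev = ⊤ from eq_top_iff.2 fun u _ => h u, finrank_top, Module.finrank_fin_fun,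
      hK.finrank_eq] at h1
    omega
  let U : Submodule F (Fin n → F) :=
    { carrier := {u | ∃ a ∈ K₂, ∃ c ∈ K₁, u = a *ᵥ v + (c * k) *ᵥ w}
      add_mem' := by
        rintro _ _ ⟨a, ha, c, hc, rfl⟩ ⟨a', ha', c', hc', rfl⟩
        refine ⟨a + a', K₂.add_mem ha ha', c + c', K₁.add_mem hc hc', ?_⟩
        rw [Matrix.add_mulVec, add_mul, Matrix.add_mulVec]; abel
      zero_mem' := ⟨0, K₂.zero_mem, 0, K₁.zero_mem, by simp⟩
      smul_mem' := by
        rintro s _ ⟨a, ha, c, hc, rfl⟩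
        refine ⟨s • a, K₂.smul_mem ha s, s • c, K₁.smul_mem hc s, ?_⟩
        rw [smul_add, Matrix.smul_mul, Matrix.smul_mulVec, Matrix.smul_mulVec] }
  have hwU : w ∉ U := by
    rintro ⟨a, ha, c, hc, h⟩
    have hne : 1 - c * k ≠ 0 := by
      intro h0
      rw [sub_eq_zero] at h0
      by_cases hc0 : c = 0
      · subst hc0
        rw [zero_mul] at h0
        have hn : Nonempty (Fin n) := ⟨⟨0, by omega⟩⟩
        exact one_ne_zero h0
      obtain ⟨y, hy, hcy⟩ := hinv c hc hc0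
      apply hk1
      have : k = y := by
        calc k = (y * c) * k := by rw [hK.comm y (hle hy) c (hle hc), hcy, one_mul]
          _ = y := by rw [mul_assoc, ← h0, mul_one]
      exact this ▸ hy
    obtain ⟨z, hz, hzz⟩ := hK.inv _ (K₂.sub_mem K₂.one_mem (K₂.mul_mem (hle hc) hk)) hne
    refine hw ⟨⟨z * a, K₂.mul_mem hz ha⟩, ?_⟩
    show (z * a) *ᵥ v = w
    have h' : (1 - c * k) *ᵥ w = a *ᵥ v := by
      rw [Matrix.sub_mulVec, Matrix.one_mulVec]
      nth_rewrite 1 [h]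
      abel
    rw [← Matrix.mulVec_mulVec, ← h', Matrix.mulVec_mulVec,
      hK.comm z hz _ (K₂.sub_mem K₂.one_mem (K₂.mul_mem (hle hc) hk)), hzz, Matrix.one_mulVec]
  obtain ⟨φ, hφw, hφU, hφlin⟩ := exists_functional ρ U (by
    rintro x _ ⟨a, ha, c, hc, rfl⟩
    refine ⟨(x : Matrix (Fin n) (Fin n) F) * a, K₂.mul_mem (hle x.2) ha, x * c, K₁.mul_mem x.2 hc, ?_⟩
    rw [hρ, Matrix.mulVec_add, Matrix.mulVec_mulVec, Matrix.mulVec_mulVec, mul_assoc]) w hwU
  let Nl : (Fin n → F) →ₗ[F] (Fin n → F) :=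
    { toFun := fun u => (φ u : Matrix (Fin n) (Fin n) F) *ᵥ v
      map_add' := fun a b => by
        rw [map_add]
        exact Matrix.add_mulVec _ _ v
      map_smul' := fun c a => by
        rw [map_smul, RingHom.id_apply]
        exact Matrix.smul_mulVec c _ v }
  let N := LinearMap.toMatrix' Nl
  have hN : ∀ u, N *ᵥ u = (φ u : Matrix (Fin n) (Fin n) F) *ᵥ v := fun u => by
    show (LinearMap.toMatrix' Nl) *ᵥ u = _
    rw [LinearMap.toMatrix'_mulVec]
    rfl
  have hvU : ∀ a ∈ K₂, a *ᵥ v ∈ U := fun a ha => ⟨a, ha, 0, K₁.zero_mem, by simp⟩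
  have hN2 : N * N = 0 := by
    apply Matrix.ext_iff_mulVec.2
    intro u
    rw [← Matrix.mulVec_mulVec, hN, hN, Matrix.zero_mulVec, hφU _ (hvU _ (hle (φ u).2)), ZeroMemClass.coe_zero, Matrix.zero_mulVec]
  let t : GL (Fin n) F := ⟨1 + N, 1 - N, by
    rw [add_mul, one_mul, mul_sub, mul_one, hN2]; abel, by
    rw [sub_mul, one_mul, mul_add, mul_one, hN2]; abel⟩
  refine ⟨t, ?_, ?_, ?_⟩
  · show Matrix.GeneralLinearGroup.det t = 1
    apply Units.ext
    exact det_eq_one_of_sq_zero N hN2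
  · intro x hx
    show (1 + N) * x = x * (1 + N)
    have : N * x = x * N := by
      apply Matrix.ext_iff_mulVec.2
      intro u
      rw [← Matrix.mulVec_mulVec, ← Matrix.mulVec_mulVec, hN, hN]
      rw [show x *ᵥ u = ρ ⟨x, hx⟩ u from rfl, hφlin, MulMemClass.coe_mul, ← Matrix.mulVec_mulVec]
    rw [add_mul, mul_add, one_mul, mul_one, this]
  · intro ht
    have hk'' := (ht k).1 hk
    set k'' : Matrix (Fin n) (Fin n) F := (1 + N) * k * (1 - N) with hk''d
    have hk''mem : k'' ∈ K₂ := hk''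
    have hv0 : N *ᵥ v = 0 := by
      rw [hN, hφU _ (by simpa using hvU 1 K₂.one_mem), ZeroMemClass.coe_zero, Matrix.zero_mulVec]
    have hkv : N *ᵥ (k *ᵥ v) = 0 := by rw [hN, hφU _ (hvU k hk), ZeroMemClass.coe_zero, Matrix.zero_mulVec]
    have e1 : k'' *ᵥ v = k *ᵥ v := by
      rw [hk''d, ← Matrix.mulVec_mulVec, ← Matrix.mulVec_mulVec, Matrix.sub_mulVec, Matrix.one_mulVec, hv0,
        sub_zero, Matrix.add_mulVec, Matrix.one_mulVec, hkv, add_zero]
    have hkk : k'' = k := by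
      by_contra hne
      obtain ⟨y, hy, hyy⟩ := hK.inv _ (K₂.sub_mem hk''mem hk) (sub_ne_zero.2 hne)
      apply hv
      rw [← Matrix.one_mulVec v, ← hyy, hK.comm _ (K₂.sub_mem hk''mem hk) y hy, ← Matrix.mulVec_mulVec,
        Matrix.sub_mulVec, e1, sub_self, Matrix.mulVec_zero]
    have hcomm : (1 + N) * k = k * (1 + N) := by
      conv_rhs => rw [← hkk, hk''d, mul_assoc, show (1 - N) * (1 + N) = 1 from by rw [sub_mul, one_mul, mul_add, mul_one, hN2]; abel, mul_one]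
    have this : ((1 + N) * k) *ᵥ w = (k * (1 + N)) *ᵥ w := by rw [hcomm]
    rw [← Matrix.mulVec_mulVec, ← Matrix.mulVec_mulVec, Matrix.add_mulVec, Matrix.one_mulVec, Matrix.add_mulVec,
      Matrix.one_mulVec, hN, hN, hφw, hφU (k *ᵥ w) ⟨0, K₂.zero_mem, 1, K₁.one_mem, by simp⟩, ZeroMemClass.coe_zero, Matrix.zero_mulVec, OneMemClass.coe_one,
      Matrix.one_mulVec, add_zero, Matrix.mulVec_add] at this
    have hkv0 : k *ᵥ v = 0 := by simpa using this
    obtain ⟨y, hy, hyy⟩ := hK.inv k hk (fun h => hk1 (h ▸ K₁.zero_mem))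
    exact hv (by rw [← Matrix.one_mulVec v, ← hyy, hK.comm k hk y hy, ← Matrix.mulVec_mulVec, hkv0, Matrix.mulVec_zero])

end Cfsg.Agent.H98
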