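import Cfsg.Agent.Unitary.Center
import Cfsg.Agent.Unitary.Order
import Mathlib.GroupTheory.SpecificGroups.Quaternion
import Mathlib.Algebra.QuadraticAlgebra.Basic

/-!
`PSU_3(2) = 3^2 : Q_8`, computed over the computable field with four elements.
-/

set_option autoImplicit false

namespace Cfsg.Agent.H98.PSU32

open Matrix Cfsg Cfsg.Agent.Unitary

/-- The field with four elements. -/
abbrev K4 : Type := QuadraticAlgebra (ZMod 2) 1 1

instance : Fintype K4 := Fintype.ofEquiv _ (QuadraticAlgebra.equivProd (1 : ZMod 2) 1).symm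

/-- A primitive cube root of unity. -/
def w : K4 := ⟨0, 1⟩

abbrev M3 : Type := Matrix (Fin 3) (Fin 3) K4

/-- The condition for an element of `SU_3(2)`. -/
def Good (M : M3) : Prop := Mᵀ * M.map (fun x => x ^ 2) = 1 ∧ M.det = 1

instance (M : M3) : Decidable (Good M) := inferInstanceAs (Decidable (_ ∧ _))

/-- Equality up to a scalar of `SU_3(2)`. -/
def Rel (M M' : M3) : Prop := ∃ k : Fin 3, M = w ^ (k : ℕ) • M'

instance (M M' : M3) : Decidable (Rel M M') := inferInstanceAs (Decidable (∃ _, _))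

def mA : M3 := !![1, 0, 0; 0, w, 0; 0, 0, w ^ 2]
def mB : M3 := !![0, 1, 0; 0, 0, 1; 1, 0, 0]
def mD : M3 := !![1, 1, 1; 1, w, w ^ 2; 1, w ^ 2, w]
def mJ : M3 := !![1, 0, 0; 0, 1, 0; 0, 0, w] * mD * !![1, 0, 0; 0, 1, 0; 0, 0, w ^ 2]

/-- The elements over the Sylow `3`-subgroup. -/
def mN (p : Fin 3 × Fin 3) : M3 := mA ^ (p.1 : ℕ) * mB ^ (p.2 : ℕ)

/-- The elements over the quaternion group. -/
def mT : QuaternionGroup 2 → M3
  | .a i => mD ^ i.val
  | .xa i => mJ * mD ^ i.val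

theorem good_N : ∀ p, Good (mN p) := by decide +kernel
theorem good_T : ∀ x, Good (mT x) := by decide +kernel
theorem mN_mul : ∀ p q, ∃ r, Rel (mN p * mN q) (mN r) := by decide +kernel
theorem mT_inj : ∀ x y p, Rel (mT x) (mN p * mT y) → x = y := by decide +kernel
theorem mN_inj : ∀ p q, Rel (mN p) (mN q) → p = q := by decide +kernel
theorem mT_mul : ∀ x y, ∃ r, Rel (mT x * mT y) (mN r * mT (x * y)) := by decide +kernel
theorem mT_conj : ∀ x p, ∃ r, Rel (mT x * mN p) (mN r * mT x) := by decide +kernel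
theorem mN_cube : ∀ p, Rel (mN p * mN p * mN p) 1 := by decide +kernel
theorem mT_one : Rel (mT 1) 1 := by decide +kernel
theorem mN_zero : Rel (mN (0, 0)) 1 := by decide +kernel
theorem pow_three_eq_one : ∀ x : K4, x ≠ 0 → x ^ 3 = 1 := by decide +kernel
theorem eq_pow_w : ∀ x : K4, x ≠ 0 → ∃ k : Fin 3, x = w ^ (k : ℕ) := by decide +kernel
theorem good_scalar : ∀ k : Fin 3, Good (w ^ (k : ℕ) • (1 : M3)) := by decide +kernel

section

variable {F : Type*} [Field F] [Fintype F]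

theorem exists_hom (hF : Fintype.card F = 4) : ∃ φ : K4 →+* F, Function.Injective φ := by
  classical
  have : Fact (Nat.Prime 2) := ⟨by norm_num⟩
  have h2 : (2 : F) = 0 := by
    have h := FiniteField.cast_card_eq_zero F
    rw [hF, show (4 : ℕ) = 2 * 2 from rfl, Nat.cast_mul, mul_self_eq_zero] at h
    exact_mod_cast h
  haveI : CharP F 2 := CharTwo.of_one_ne_zero_of_two_eq_zero one_ne_zero h2
  letI : Algebra (ZMod 2) F := ZMod.algebra F 2
  obtain ⟨u, hu, hu0⟩ : ∃ u : F, u * u = u + 1 ∧ u ≠ 0 := by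
    obtain ⟨u, hu⟩ : ∃ u : F, u ∉ ({0, 1} : Finset F) := by
      by_contra h
      push Not at h
      have := (Finset.card_le_card (show (Finset.univ : Finset F) ⊆ {0, 1} from fun x _ => h x)).trans
        Finset.card_le_two
      rw [Finset.card_univ, hF] at this
      omega
    simp only [Finset.mem_insert, Finset.mem_singleton, not_or] at hu
    refine ⟨u, ?_, hu.1⟩
    have h3 := FiniteField.pow_card_sub_one_eq_one u hu.1
    rw [hF] at h3
    have h4 : (u - 1) * (u * u + u + 1) = 0 := by linear_combination h3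
    rcases mul_eq_zero.1 h4 with h | h
    · exact absurd (sub_eq_zero.1 h) hu.2
    · linear_combination h - (u + 1) * h2
  let φ : K4 →ₐ[ZMod 2] F := QuadraticAlgebra.lift ⟨u, by rw [one_smul, one_smul, hu, add_comm]⟩
  refine ⟨φ.toRingHom, (injective_iff_map_eq_zero φ).2 fun x hx => ?_⟩
  by_contra h
  have := congrArg φ (pow_three_eq_one x h)
  rw [map_pow, hx, zero_pow (by norm_num), map_one] at this
  exact zero_ne_one this

variable (φ : K4 →+* F)

/-- The image in `PSU_3(2)` of a good matrix. -/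
noncomputable def im (hF : Fintype.card F = 4) (M : M3) : PSU 3 F 2 := by
  classical
  exact if h : Good M then
    QuotientGroup.mk' (Subgroup.center (SU 3 F 2)) (toSU (M := φ.mapMatrix M)
      ((preserves_iff_transpose_mul (q := 2) (n := 3) hF).2 (by
        have := congrArg φ.mapMatrix h.1
        rw [map_mul, map_one] at this
        rw [← this]
        congr 1
        ext i j
        simp))
      (by rw [← RingHom.map_det, h.2, map_one]))
    else 1

variable (hF : Fintype.card F = 4)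

theorem im_eq {M : M3} (h : Good M) : ∃ A : SU 3 F 2,
    mat A = φ.mapMatrix M ∧ im φ hF M = QuotientGroup.mk' (Subgroup.center (SU 3 F 2)) A := by
  classical
  refine ⟨_, ?_, dif_pos h⟩
  exact coe_toSU _ _

theorem im_mul {M₁ M₂ M₃ : M3} (h₁ : Good M₁) (h₂ : Good M₂) (h₃ : Good M₃) (h : Rel (M₁ * M₂) M₃) :
    im φ hF M₁ * im φ hF M₂ = im φ hF M₃ := by
  obtain ⟨k, hk⟩ := h
  obtain ⟨A₁, e₁, i₁⟩ := im_eq φ hF h₁
  obtain ⟨A₂, e₂, i₂⟩ := im_eq φ hF h₂
  obtain ⟨A₃, e₃, i₃⟩ := im_eq φ hF h₃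
  rw [i₁, i₂, i₃, ← map_mul]
  refine (QuotientGroup.eq.2 ?_).symm
  refine smul_mem_center (l := φ (w ^ (k : ℕ))) fun x => ?_
  have e : mat (A₁ * A₂) = φ (w ^ (k : ℕ)) • mat A₃ := by
    show mat A₁ * mat A₂ = _
    rw [e₁, e₂, e₃, ← map_mul, hk]
    ext i j
    simp
  have h2 : ap (A₁ * A₂) x = φ (w ^ (k : ℕ)) • ap A₃ x := by
    rw [ap_def, e, smul_mulVec, ← ap_def]
  rw [ap_mul, h2, ap_smul, ap_inv_ap]

theorem good_one : Good (1 : M3) := by decide +kernel

theorem im_one : im φ hF (1 : M3) = 1 := by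
  have h := im_mul φ hF good_one good_one good_one ⟨0, by simp⟩
  exact mul_left_cancel (h.trans (mul_one _).symm)

instance : CharP K4 2 := CharTwo.of_one_ne_zero_of_two_eq_zero (by decide +kernel) (by decide +kernel)

theorem good_mul {M₁ M₂ : M3} (h₁ : Good M₁) (h₂ : Good M₂) : Good (M₁ * M₂) := by
  refine ⟨?_, by rw [det_mul, h₁.2, h₂.2, one_mul]⟩
  have hf : ⇑(frobenius K4 2) = fun x => x ^ 2 := funext fun x => frobenius_def 2 x
  rw [transpose_mul, ← hf, Matrix.map_mul, hf, Matrix.mul_assoc, ← Matrix.mul_assoc M₁ᵀ]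
  rw [h₁.1, Matrix.one_mul, h₂.1]

theorem im_mul' {M₁ M₂ : M3} (h₁ : Good M₁) (h₂ : Good M₂) :
    im φ hF M₁ * im φ hF M₂ = im φ hF (M₁ * M₂) :=
  im_mul φ hF h₁ h₂ (good_mul h₁ h₂) ⟨0, by simp⟩

theorem im_rel {M M' : M3} (h : Good M) (h' : Good M') (hr : Rel M M') : im φ hF M = im φ hF M' := by
  have := im_mul φ hF h good_one h' (by rwa [Matrix.mul_one])
  rwa [im_one φ hF, mul_one] at this

theorem rel_of_im_eq (hφ : Function.Injective φ) {M M' : M3} (h : Good M) (h' : Good M')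
    (h1 : im φ hF M = im φ hF M') : Rel M M' := by
  obtain ⟨A, e, i⟩ := im_eq φ hF h
  obtain ⟨A', e', i'⟩ := im_eq φ hF h'
  rw [i, i', QuotientGroup.mk'_apply, QuotientGroup.mk'_apply, eq_comm, QuotientGroup.eq] at h1
  obtain ⟨l, hl⟩ := eq_smul_of_mem_center (q := 2) hF (by norm_num) h1
  have hsurj : Function.Surjective φ :=
    (Fintype.bijective_iff_injective_and_card φ).2 ⟨hφ, by rw [hF]; decide +kernel⟩ |>.2
  obtain ⟨c, rfl⟩ := hsurj l
  have hA : mat A = φ c • mat A' := by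
    refine Matrix.ext_iff_mulVec.2 fun x => ?_
    rw [smul_mulVec, ← ap_def, ← ap_def, ← ap_smul, ← hl, ← ap_mul, mul_inv_cancel_left]
  have hM : M = c • M' := Matrix.ext fun a b => hφ (by
    have := congrFun (congrFun hA a) b
    rw [e, e'] at this
    simpa using this)
  have hc : c ≠ 0 := fun h0 => by
    have := h.2
    rw [hM, h0, zero_smul, det_zero] at this
    exact zero_ne_one this
  obtain ⟨k, hk⟩ := eq_pow_w c hc
  exact ⟨k, hM.trans (by rw [hk])⟩

end

/-- The structure of `PSU_3(2)`. -/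
theorem structure_psu {F : Type*} [Field F] [Fintype F] (hF : Fintype.card F = 4)
    (hcard : Nat.card (PSU 3 F 2) = 72) :
    ∃ (N : Subgroup (PSU 3 F 2)) (_ : N.Normal), Nat.card N = 9 ∧ (∀ x ∈ N, x ^ 3 = 1) ∧
      Nonempty (PSU 3 F 2 ⧸ N ≃* QuaternionGroup 2) := by
  classical
  obtain ⟨φ, hφ⟩ := exists_hom hF
  haveI : Finite (PSU 3 F 2) := Nat.finite_of_card_ne_zero (by omega)
  let n : Fin 3 × Fin 3 → PSU 3 F 2 := fun p => im φ hF (mN p)
  let t : QuaternionGroup 2 → PSU 3 F 2 := fun x => im φ hF (mT x)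
  have hn1 : n (0, 0) = 1 := (im_rel φ hF (good_N _) good_one mN_zero).trans (im_one φ hF)
  have ht1 : t 1 = 1 := (im_rel φ hF (good_T _) good_one mT_one).trans (im_one φ hF)
  have hnn : ∀ p q, ∃ r, n p * n q = n r := fun p q => by
    obtain ⟨r, hr⟩ := mN_mul p q
    exact ⟨r, im_mul φ hF (good_N _) (good_N _) (good_N _) hr⟩
  have htt : ∀ x y, ∃ r, t x * t y = n r * t (x * y) := fun x y => by
    obtain ⟨r, hr⟩ := mT_mul x y
    refine ⟨r, ?_⟩
    rw [im_mul' φ hF (good_N _) (good_T _)]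
    exact im_mul φ hF (good_T _) (good_T _) (good_mul (good_N _) (good_T _)) hr
  have htn : ∀ x p, ∃ r, t x * n p = n r * t x := fun x p => by
    obtain ⟨r, hr⟩ := mT_conj x p
    refine ⟨r, ?_⟩
    rw [im_mul' φ hF (good_N _) (good_T _)]
    exact im_mul φ hF (good_T _) (good_N _) (good_mul (good_N _) (good_T _)) hr
  have hn3 : ∀ p, n p * n p * n p = 1 := fun p => by
    show im φ hF (mN p) * im φ hF (mN p) * im φ hF (mN p) = 1
    rw [im_mul' φ hF (good_N _) (good_N _),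
      im_mul φ hF (good_mul (good_N _) (good_N _)) (good_N _) good_one (mN_cube p), im_one φ hF]
  let N : Subgroup (PSU 3 F 2) :=
    { carrier := Set.range n
      one_mem' := ⟨_, hn1⟩
      mul_mem' := by
        rintro _ _ ⟨p, rfl⟩ ⟨q, rfl⟩
        obtain ⟨r, hr⟩ := hnn p q
        exact ⟨r, hr.symm⟩
      inv_mem' := by
        rintro _ ⟨p, rfl⟩
        obtain ⟨r, hr⟩ := hnn p p
        exact ⟨r, by rw [← hr]; exact eq_inv_of_mul_eq_one_left (hn3 p)⟩ }
  have hinj : Function.Injective fun a : (Fin 3 × Fin 3) × QuaternionGroup 2 => n a.1 * t a.2 := by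
    rintro ⟨p, x⟩ ⟨q, y⟩ h
    simp only at h
    obtain ⟨a, ha⟩ : (n p)⁻¹ * n q ∈ N := N.mul_mem (N.inv_mem ⟨p, rfl⟩) ⟨q, rfl⟩
    have ht : t x = n a * t y := by rw [ha, mul_assoc, ← h, inv_mul_cancel_left]
    have hxy : x = y := mT_inj x y a (rel_of_im_eq φ hF hφ (good_T _) (good_mul (good_N _) (good_T _))
      (by rw [← im_mul' φ hF (good_N _) (good_T _)]; exact ht))
    subst hxy
    exact Prod.ext (mN_inj p q (rel_of_im_eq φ hF hφ (good_N _) (good_N _) (mul_right_cancel h))) rfl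
  have hsurj : Function.Surjective fun a : (Fin 3 × Fin 3) × QuaternionGroup 2 => n a.1 * t a.2 := by
    refine ((Nat.bijective_iff_injective_and_card _).2 ⟨hinj, ?_⟩).2
    rw [hcard, Nat.card_prod, Nat.card_prod, Nat.card_fin, Nat.card_eq_fintype_card, QuaternionGroup.card]
  have hnormal : N.Normal := ⟨by
    rintro _ ⟨p, rfl⟩ g
    obtain ⟨⟨q, x⟩, rfl⟩ := hsurj g
    obtain ⟨r, hr⟩ := htn x p
    show n q * t x * n p * (n q * t x)⁻¹ ∈ N
    rw [mul_assoc (n q), hr, _root_.mul_inv_rev, ← mul_assoc (n q), ← mul_assoc, mul_inv_cancel_right]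
    exact N.mul_mem (N.mul_mem ⟨q, rfl⟩ ⟨r, rfl⟩) (N.inv_mem ⟨q, rfl⟩)⟩
  refine ⟨N, hnormal, ?_, ?_, ?_⟩
  · show Nat.card (Set.range n) = 9
    rw [Nat.card_range_of_injective fun p q h => mN_inj p q (rel_of_im_eq φ hF hφ (good_N _) (good_N _) h)]
    simp
  · rintro _ ⟨p, rfl⟩
    rw [pow_succ, pow_two, hn3]
  · let χ : QuaternionGroup 2 →* PSU 3 F 2 ⧸ N :=
      { toFun := fun x => QuotientGroup.mk (t x)
        map_one' := by rw [ht1]; rfl
        map_mul' := fun x y => by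
          obtain ⟨r, hr⟩ := htt x y
          rw [← QuotientGroup.mk_mul, hr, QuotientGroup.mk_mul, (QuotientGroup.eq_one_iff (N := N) _).2 ⟨r, rfl⟩, one_mul] }
    refine ⟨(MulEquiv.ofBijective χ ⟨?_, ?_⟩).symm⟩
    · intro x y h
      obtain ⟨a, ha⟩ : t x * (t y)⁻¹ ∈ N := by
        rw [← QuotientGroup.eq_one_iff, QuotientGroup.mk_mul, QuotientGroup.mk_inv, mul_inv_eq_one]
        exact h
      have := hinj (a₁ := ((0, 0), x)) (a₂ := (a, y)) (by simp only; rw [hn1, one_mul, ha, inv_mul_cancel_right])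
      exact congrArg Prod.snd this
    · intro g
      induction g using QuotientGroup.induction_on with
      | _ g =>
        obtain ⟨⟨q, x⟩, rfl⟩ := hsurj g
        exact ⟨x, by
          show _ = ((n q * t x : PSU 3 F 2) : PSU 3 F 2 ⧸ N)
          rw [QuotientGroup.mk_mul, (QuotientGroup.eq_one_iff (N := N) _).2 ⟨q, rfl⟩, one_mul]; rfl⟩

end Cfsg.Agent.H98.PSU32
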