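import Mathlib

/-! Stabilisers of uniform partitions: elementary tools. -/

set_option autoImplicit false

namespace Cfsg.Agent.H98

open Equiv

variable {α β : Type*}

/-- The permutations preserving the partition given by the fibres of `f`. -/
def partStab (f : α → β) : Subgroup (Perm α) where
  carrier := {g | ∀ x y, f x = f y ↔ f (g x) = f (g y)}
  one_mem' := fun _ _ => Iff.rfl
  mul_mem' := fun {a b} ha hb x y => (hb x y).trans (ha (b x) (b y))
  inv_mem' := fun {a} ha x y => by
    have h := ha (a⁻¹ x) (a⁻¹ y)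
    simp only [Perm.coe_inv, Equiv.apply_symm_apply] at h ⊢
    exact h.symm

theorem mem_partStab {f : α → β} {g : Perm α} :
    g ∈ partStab f ↔ ∀ x y, f x = f y ↔ f (g x) = f (g y) := Iff.rfl

theorem closure_partition (f : α → β) :
    Subgroup.closure {g : Perm α | ∀ x y : α, f x = f y ↔ f (g x) = f (g y)} = partStab f :=
  le_antisymm ((Subgroup.closure_le _).2 fun _ hg => hg) fun _ hg => Subgroup.subset_closure hg

/-- Coordinates adapted to a uniform partition. -/
theorem exists_coords [Finite α] (a b : ℕ) (ha : a ≠ 0) (f : α → Fin b)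
    (hf : ∀ i : Fin b, Nat.card {x : α // f x = i} = a) :
    ∃ e : α ≃ Fin b × Fin a, ∀ x, (e x).1 = f x := by
  have h : ∀ i, Nonempty ({x : α // f x = i} ≃ Fin a) := fun i =>
    ⟨Finite.equivFinOfCardEq (hf i)⟩
  let e := fun i => (h i).some
  refine ⟨((Equiv.sigmaFiberEquiv f).symm.trans (Equiv.sigmaCongrRight e)).trans
    (Equiv.sigmaEquivProd (Fin b) (Fin a)), fun x => rfl⟩

theorem card_coords [Fintype α] (a b : ℕ) (f : α → Fin b)
    (hf : ∀ i : Fin b, Nat.card {x : α // f x = i} = a) (ha : a ≠ 0) : Fintype.card α = b * a := by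
  obtain ⟨e, -⟩ := exists_coords a b ha f hf
  rw [Fintype.card_congr e, Fintype.card_prod, Fintype.card_fin, Fintype.card_fin]

variable [DecidableEq α]

theorem swap_mem_partStab {f : α → β} {x y : α} (h : f x = f y) : swap x y ∈ partStab f := by
  have hs : ∀ z, f (swap x y z) = f z := fun z => by
    rcases eq_or_ne z x with rfl | h1
    · rw [swap_apply_left, h]
    rcases eq_or_ne z y with rfl | h2
    · rw [swap_apply_right, h]
    · rw [swap_apply_of_ne_of_ne h1 h2]
  intro u v
  rw [hs, hs]

/-- The partition stabiliser is transitive on ordered cross pairs. -/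
theorem move_cross [Finite α] (a b : ℕ) (ha : a ≠ 0) (f : α → Fin b)
    (hf : ∀ i : Fin b, Nat.card {x : α // f x = i} = a)
    {p q u v : α} (hpq : f p ≠ f q) (huv : f u ≠ f v) :
    ∃ w ∈ partStab f, w p = u ∧ w q = v := by
  obtain ⟨e, he⟩ := exists_coords a b ha f hf
  let σ : Perm (Fin b) := swap (swap (f p) (f u) (f q)) (f v) * swap (f p) (f u)
  have hσp : σ (f p) = f u := by
    show swap (swap (f p) (f u) (f q)) (f v) (swap (f p) (f u) (f p)) = f u
    rw [swap_apply_left]
    refine swap_apply_of_ne_of_ne (fun h => hpq ?_) huv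
    exact (swap (f p) (f u)).injective ((swap_apply_left (f p) (f u)).trans h)
  have hσq : σ (f q) = f v := swap_apply_left _ _
  let π : Fin b → Perm (Fin a) := fun i =>
    if i = f p then swap (e p).2 (e u).2 else swap (e q).2 (e v).2
  let W : Perm (Fin b × Fin a) := (Equiv.prodShear σ π)
  refine ⟨e.trans (W.trans e.symm), ?_, ?_, ?_⟩
  · intro x y
    rw [← he, ← he, ← he, ← he]
    simp only [Equiv.trans_apply, Equiv.apply_symm_apply]
    show _ ↔ σ (e x).1 = σ (e y).1
    exact σ.apply_eq_iff_eq.symm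
  · rw [Equiv.trans_apply, Equiv.trans_apply, Equiv.symm_apply_eq]
    show (σ (e p).1, π (e p).1 (e p).2) = e u
    rw [he, hσp]
    simp only [π, if_pos, swap_apply_left]
    rw [← he]
  · rw [Equiv.trans_apply, Equiv.trans_apply, Equiv.symm_apply_eq]
    show (σ (e q).1, π (e q).1 (e q).2) = e v
    rw [he, hσq]
    simp only [π, if_neg hpq.symm, swap_apply_left]
    rw [← he]

/-- An element outside the partition stabiliser separates two points of one block, up to inversion. -/
theorem exists_split {f : α → β} {g : Perm α} (hg : g ∉ partStab f) :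
    ∃ x y, f x = f y ∧ (f (g x) ≠ f (g y) ∨ f (g⁻¹ x) ≠ f (g⁻¹ y)) := by
  by_contra h
  push Not at h
  refine hg fun x y => ⟨fun hxy => (h x y hxy).1, fun hxy => ?_⟩
  have := (h _ _ hxy).2
  simpa using this

theorem swap_trans_mem {X : Subgroup (Perm α)} {x y z : α} (h1 : swap x y ∈ X) (h2 : swap y z ∈ X)
    (hxy : x ≠ y) (hxz : x ≠ z) : swap x z ∈ X := by
  rw [swap_comm x z, ← swap_mul_swap_mul_swap hxy hxz]
  exact X.mul_mem (X.mul_mem h2 h1) h2

end Cfsg.Agent.H98
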