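import Cfsg.Agent.H98.Partition

/-! Even permutations preserving a uniform partition. -/

set_option autoImplicit false

namespace Cfsg.Agent.H98

open Equiv MulAction
open scoped Pointwise

variable {α : Type*} [Fintype α] [DecidableEq α]

theorem partner (a b : ℕ) (ha : 2 ≤ a) (f : α → Fin b)
    (hf : ∀ i : Fin b, Nat.card {x : α // f x = i} = a) (x : α) : ∃ y, y ≠ x ∧ f y = f x := by
  have h : 1 < (Finset.univ.filter fun y => f y = f x).card := by
    rw [← Fintype.card_subtype, ← Nat.card_eq_fintype_card, hf]; omega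
  obtain ⟨y, hy, hne⟩ := Finset.exists_mem_ne h x
  exact ⟨y, hne, (Finset.mem_filter.1 hy).2⟩

theorem two_others (a b : ℕ) (ha : 3 ≤ a) (f : α → Fin b)
    (hf : ∀ i : Fin b, Nat.card {x : α // f x = i} = a) (x : α) :
    ∃ s t, s ≠ t ∧ s ≠ x ∧ t ≠ x ∧ f s = f x ∧ f t = f x := by
  have h : 1 < ((Finset.univ.filter fun y => f y = f x).erase x).card := by
    rw [Finset.card_erase_of_mem (show x ∈ Finset.univ.filter (fun y => f y = f x) from
      Finset.mem_filter.2 ⟨Finset.mem_univ _, rfl⟩), ← Fintype.card_subtype, ← Nat.card_eq_fintype_card, hf]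
    omega
  obtain ⟨s, hs, t, ht, hst⟩ := Finset.one_lt_card.1 h
  exact ⟨s, t, hst, (Finset.mem_erase.1 hs).1, (Finset.mem_erase.1 ht).1,
    (Finset.mem_filter.1 (Finset.mem_erase.1 hs).2).2, (Finset.mem_filter.1 (Finset.mem_erase.1 ht).2).2⟩

theorem move_cross_even (a b : ℕ) (ha : 2 ≤ a) (hab : 3 ≤ a ∨ 3 ≤ b) (f : α → Fin b)
    (hf : ∀ i : Fin b, Nat.card {x : α // f x = i} = a)
    {p q u v : α} (hpq : f p ≠ f q) (huv : f u ≠ f v) :
    ∃ w ∈ partStab f ⊓ alternatingGroup α, w p = u ∧ w q = v := by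
  obtain ⟨w, hw, h1, h2⟩ := move_cross a b (by omega) f hf hpq huv
  rcases Int.units_eq_one_or (Equiv.Perm.sign w) with h | h
  · exact ⟨w, ⟨hw, Equiv.Perm.mem_alternatingGroup.2 h⟩, h1, h2⟩
  obtain ⟨s, t, hst, hf', hsu, hsv, htu, htv⟩ :
      ∃ s t, s ≠ t ∧ f s = f t ∧ s ≠ u ∧ s ≠ v ∧ t ≠ u ∧ t ≠ v := by
    rcases hab with ha3 | hb3
    · obtain ⟨s, t, hst, hs, ht, hfs, hft⟩ := two_others a b ha3 f hf u
      exact ⟨s, t, hst, hfs.trans hft.symm, hs, fun h => huv (hfs.symm.trans (congrArg f h)),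
        ht, fun h => huv (hft.symm.trans (congrArg f h))⟩
    · obtain ⟨i, hi⟩ : ∃ i : Fin b, i ∉ ({f u, f v} : Finset (Fin b)) := by
        by_contra hc
        push Not at hc
        have h3 := Finset.card_le_card (fun i _ => hc i : (Finset.univ : Finset (Fin b)) ⊆ {f u, f v})
        rw [Finset.card_univ, Fintype.card_fin] at h3
        have := Finset.card_le_two (a := f u) (b := f v)
        omega
      simp only [Finset.mem_insert, Finset.mem_singleton, not_or] at hi
      obtain ⟨e, he⟩ := exists_coords a b (by omega) f hf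
      let s := e.symm (i, ⟨0, by omega⟩)
      have hs : f s = i := by rw [← he]; simp [s]
      obtain ⟨t, hts, htf⟩ := partner a b ha f hf s
      exact ⟨s, t, hts.symm, htf.symm, fun h => hi.1 (by rw [← hs, h]), fun h => hi.2 (by rw [← hs, h]),
        fun h => hi.1 (by rw [← hs, ← htf, h]), fun h => hi.2 (by rw [← hs, ← htf, h])⟩
  refine ⟨swap s t * w, ⟨Subgroup.mul_mem _ (swap_mem_partStab hf') hw, Equiv.Perm.mem_alternatingGroup.2 ?_⟩, ?_, ?_⟩
  · rw [Equiv.Perm.sign_mul, Equiv.Perm.sign_swap hst, h]; decide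
  · rw [Equiv.Perm.mul_apply, h1, swap_apply_of_ne_of_ne hsu.symm htu.symm]
  · rw [Equiv.Perm.mul_apply, h2, swap_apply_of_ne_of_ne hsv.symm htv.symm]

/-- A three-cycle moves each moved point within one translate of a block. -/
theorem threeCycle_block {X : Subgroup (Perm α)} {B : Set α} (hB : IsBlock X B) {c : Perm α}
    (hc : c.IsThreeCycle) (hcX : c ∈ X) {x y : α} (hx : x ∈ B) (hy : y ∈ B) (hxy : x ≠ y) :
    c x ∈ B := by
  by_contra h
  have hd : ∀ z ∈ B, c z ∉ B := by
    intro z hz hcz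
    apply h
    have e := isBlock_iff_smul_eq_of_mem.1 hB (g := (⟨c, hcX⟩ : X)) hz hcz
    rw [← e]
    exact Set.smul_mem_smul_set hx
  have hxs : x ∈ c.support := Equiv.Perm.mem_support.2 fun e => h (by rw [e]; exact hx)
  have hys : y ∈ c.support := Equiv.Perm.mem_support.2 fun e => hd y hy (by rw [e]; exact hy)
  have hs : c.support = {x, c x, c (c x)} := hc.support_eq_iff_mem_support.2 hxs
  rw [hs, Finset.mem_insert, Finset.mem_insert, Finset.mem_singleton] at hys
  rcases hys with e | e | e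
  · exact hxy e.symm
  · exact h (e ▸ hy)
  · have h3 : c (c (c x)) = x := by
      have := hc.orderOf
      have hp : c ^ 3 = 1 := this ▸ pow_orderOf_eq_one c
      have := Equiv.Perm.congr_fun hp x
      simpa [pow_succ] using this
    exact hd y hy (by rw [e, h3]; exact hx)

/-- A group containing the even partition stabiliser and a three-cycle crossing two parts contains the
alternating group. -/
theorem alt_le_of_cross (a b : ℕ) (ha : 2 ≤ a) (hb : 2 ≤ b) (hab : 3 ≤ a ∨ 3 ≤ b) (f : α → Fin b)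
    (hf : ∀ i : Fin b, Nat.card {x : α // f x = i} = a) {X : Subgroup (Perm α)}
    (hX : partStab f ⊓ alternatingGroup α ≤ X) {c : Perm α} (hc : c.IsThreeCycle) (hcX : c ∈ X)
    {p : α} (hp : f p ≠ f (c p)) : alternatingGroup α ≤ X := by
  obtain ⟨e, he⟩ := exists_coords a b (by omega) f hf
  have third : ∀ u : α, ∃ v, f u ≠ f v := by
    intro u
    obtain ⟨i, hi⟩ : ∃ i : Fin b, i ≠ f u := by
      have : Nontrivial (Fin b) := Fin.nontrivial_iff_two_le.2 hb
      exact exists_ne _
    exact ⟨e.symm (i, ⟨0, by omega⟩), by rw [← he (e.symm _)]; simpa using hi.symm⟩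
  have hcross : ∀ u v, f u ≠ f v → ∃ w ∈ X, w.IsThreeCycle ∧ w u = v := by
    intro u v huv
    obtain ⟨w, hw, h1, h2⟩ := move_cross_even a b ha hab f hf hp huv
    refine ⟨w * c * w⁻¹, X.mul_mem (X.mul_mem (hX hw) hcX) (X.inv_mem (hX hw)), ?_, ?_⟩
    · show (w * c * w⁻¹).cycleType = {3}
      rw [Equiv.Perm.cycleType_conj]; exact hc
    · rw [← h1]; simp [h2]
  have : MulAction.IsPretransitive X α := ⟨fun u v => by
    by_cases huv : f u = f v
    · obtain ⟨z, hz⟩ := third u
      obtain ⟨w1, hw1, -, e1⟩ := hcross u z hz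
      obtain ⟨w2, hw2, -, e2⟩ := hcross z v (fun h => hz (huv.trans h.symm))
      exact ⟨⟨w2 * w1, X.mul_mem hw2 hw1⟩, by show w2 (w1 u) = v; rw [e1, e2]⟩
    · obtain ⟨w, hw, -, e⟩ := hcross u v huv
      exact ⟨⟨w, hw⟩, e⟩⟩
  have hprim : MulAction.IsPreprimitive X α := by
    refine ⟨fun {B} hB => ?_⟩
    by_cases hsub : B.Subsingleton
    · exact Or.inl hsub
    right
    rw [Set.not_subsingleton_iff] at hsub
    obtain ⟨x, hx, y, hy, hxy⟩ := hsub
    have step : ∀ u ∈ B, ∀ v, f u ≠ f v → v ∈ B := by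
      intro u hu v huv
      obtain ⟨w, hw, hw3, e⟩ := hcross u v huv
      obtain ⟨z, hz, hzu⟩ : ∃ z ∈ B, u ≠ z := by
        rcases eq_or_ne u x with h | h
        · exact ⟨y, hy, h ▸ hxy⟩
        · exact ⟨x, hx, h⟩
      exact e ▸ threeCycle_block hB hw3 hw hu hz hzu
    refine Set.eq_univ_of_forall fun v => ?_
    by_cases hxv : f x = f v
    · obtain ⟨z, hz⟩ := third x
      exact step z (step x hx z hz) v (fun h => hz (hxv.trans h.symm))
    · exact step x hx v hxv
  exact Equiv.Perm.alternatingGroup_le_of_isPreprimitive_of_isThreeCycle_mem hprim hc hcX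

end Cfsg.Agent.H98
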