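import Cfsg.Agent.H98.PartitionAlt

/-! Small cases for partitions into pairs. -/

set_option autoImplicit false

namespace Cfsg.Agent.H98

open Equiv

/-- Transport the partition stabiliser along coordinates. -/
theorem exists_half_coords {α : Type*} [Finite α] (b : ℕ) (f : α → Fin b)
    (hf : ∀ i : Fin b, Nat.card {x : α // f x = i} = 2) :
    ∃ e : α ≃ Fin (b * 2), ∀ g : Perm α, g ∈ partStab f ↔
      e.permCongrHom g ∈ partStab (fun i : Fin (b * 2) => (i : ℕ) / 2) := by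
  obtain ⟨e, he⟩ := exists_coords 2 b (by omega) f hf
  refine ⟨e.trans finProdFinEquiv, fun g => ?_⟩
  have key : ∀ x, ((e.trans finProdFinEquiv) x : ℕ) / 2 = (f x : ℕ) := by
    intro x
    rw [← he]
    show (((e x).2 : ℕ) + 2 * ((e x).1 : ℕ)) / 2 = _
    have := (e x).2.2
    omega
  have happ : ∀ x, (e.trans finProdFinEquiv).permCongrHom g ((e.trans finProdFinEquiv) x)
      = (e.trans finProdFinEquiv) (g x) := by
    intro x
    show (e.trans finProdFinEquiv) (g ((e.trans finProdFinEquiv).symm ((e.trans finProdFinEquiv) x))) = _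
    rw [Equiv.symm_apply_apply]
  constructor
  · intro hg
    show ∀ u v, _
    intro u v
    obtain ⟨x, rfl⟩ := (e.trans finProdFinEquiv).surjective u
    obtain ⟨y, rfl⟩ := (e.trans finProdFinEquiv).surjective v
    rw [happ, happ]
    simp only [key, ← Fin.ext_iff]
    exact hg x y
  · intro hg x y
    have := hg ((e.trans finProdFinEquiv) x) ((e.trans finProdFinEquiv) y)
    rw [happ, happ] at this
    simp only [key, ← Fin.ext_iff] at this
    exact this

theorem perm_four : ∀ g x : Perm (Fin 4), Equiv.Perm.sign g = 1 → Equiv.Perm.sign x = 1 →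
    (∀ u v : Fin 4, (u : ℕ) / 2 = (v : ℕ) / 2 ↔ (g u : ℕ) / 2 = (g v : ℕ) / 2) ∨
    (∀ u v : Fin 4, (u : ℕ) / 2 = (v : ℕ) / 2 ↔ (x u : ℕ) / 2 = (x v : ℕ) / 2) ∨
    (∀ u v : Fin 4, (u : ℕ) / 2 = (v : ℕ) / 2 ↔ ((g * x) u : ℕ) / 2 = ((g * x) v : ℕ) / 2) ∨
    (∀ u v : Fin 4, (u : ℕ) / 2 = (v : ℕ) / 2 ↔ ((g⁻¹ * x) u : ℕ) / 2 = ((g⁻¹ * x) v : ℕ) / 2) := by
  decide +kernel

/-- The even permutations of six points preserving three pairs. -/
def pairsSix : List (Perm (Fin 6)) :=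
  [1,
    (swap 2 3 * swap 4 5),
    (swap 0 2 * swap 1 3) * (finRotate 6 * finRotate 6),
    (swap 2 3 * swap 4 5) * (swap 0 2 * swap 1 3) * (finRotate 6 * finRotate 6),
    (swap 0 1 * swap 2 3) * (swap 2 3 * swap 4 5),
    (swap 0 1 * swap 2 3),
    (swap 0 1 * swap 2 3) * (swap 0 2 * swap 1 3) * (finRotate 6 * finRotate 6),
    (swap 0 2 * swap 1 3) * (swap 2 3 * swap 4 5) * (finRotate 6 * finRotate 6),
    (swap 0 2 * swap 1 3),
    (swap 0 2 * swap 1 3) * (swap 2 3 * swap 4 5),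
    (finRotate 6 * finRotate 6),
    (finRotate 6 * finRotate 6) * (swap 2 3 * swap 4 5),
    (swap 2 3 * swap 4 5) * (swap 0 2 * swap 1 3),
    (swap 0 1 * swap 2 3) * (swap 0 2 * swap 1 3),
    (swap 0 1 * swap 2 3) * (finRotate 6 * finRotate 6),
    (swap 2 3 * swap 4 5) * (finRotate 6 * finRotate 6),
    (finRotate 6 * finRotate 6) * (finRotate 6 * finRotate 6),
    (swap 0 1 * swap 2 3) * (finRotate 6 * finRotate 6) * (finRotate 6 * finRotate 6),
    (finRotate 6 * finRotate 6) * (swap 0 2 * swap 1 3),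
    (swap 0 1 * swap 2 3) * (finRotate 6 * finRotate 6) * (swap 0 2 * swap 1 3),
    (swap 2 3 * swap 4 5) * (finRotate 6 * finRotate 6) * (finRotate 6 * finRotate 6),
    (finRotate 6 * finRotate 6) * (swap 2 3 * swap 4 5) * (finRotate 6 * finRotate 6),
    (finRotate 6 * finRotate 6) * (swap 2 3 * swap 4 5) * (swap 0 2 * swap 1 3),
    (swap 2 3 * swap 4 5) * (finRotate 6 * finRotate 6) * (swap 0 2 * swap 1 3)]

theorem pairsSix_spec : ∀ w ∈ pairsSix, Equiv.Perm.sign w = 1 ∧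
    (∀ u v : Fin 6, (u : ℕ) / 2 = (v : ℕ) / 2 ↔ (w u : ℕ) / 2 = (w v : ℕ) / 2) := by
  decide +kernel

theorem perm_six : ∀ g : Perm (Fin 6), Equiv.Perm.sign g = 1 →
    (∀ u v : Fin 6, (u : ℕ) / 2 = (v : ℕ) / 2 ↔ (g u : ℕ) / 2 = (g v : ℕ) / 2) ∨
    ∃ w ∈ pairsSix, (g * w).support.card = 3 := by
  decide +kernel

end Cfsg.Agent.H98
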