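import Mathlib

/-! Subgroups of index `n` in the symmetric group of degree `n`. -/

set_option autoImplicit false

namespace Cfsg.Agent.H98

open Equiv MulAction
open scoped Nat Pointwise

variable {α β : Type*} [Fintype α] [DecidableEq α] [Fintype β] [DecidableEq β]

theorem succ_le_choose {n : ℕ} : ∀ {k : ℕ}, 2 ≤ k → k + 2 ≤ n → n < n.choose k := by
  intro k hk hkn
  rcases le_or_gt (2 * k) n with h | h
  · have h2 : n.choose 2 ≤ n.choose k := by
      have step : ∀ j, 2 ≤ j → 2 * j ≤ n → n.choose 2 ≤ n.choose j := by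
        intro j hj
        induction j, hj using Nat.le_induction with
        | base => exact fun _ => le_rfl
        | succ j hj ih =>
          intro h'
          exact (ih (by omega)).trans (Nat.choose_le_succ_of_lt_half_left (by omega))
      exact step k hk h
    have : n < n.choose 2 := by
      rw [Nat.choose_two_right, Nat.lt_div_iff_mul_lt' (Nat.even_mul_pred_self n).two_dvd]
      nlinarith [Nat.sub_add_cancel (show 1 ≤ n by omega)]
    omega
  · rw [← Nat.choose_symm (show k ≤ n by omega)]
    have h2 : n.choose 2 ≤ n.choose (n - k) := by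
      have step : ∀ j, 2 ≤ j → 2 * j ≤ n → n.choose 2 ≤ n.choose j := by
        intro j hj
        induction j, hj using Nat.le_induction with
        | base => exact fun _ => le_rfl
        | succ j hj ih =>
          intro h'
          exact (ih (by omega)).trans (Nat.choose_le_succ_of_lt_half_left (by omega))
      exact step (n - k) (by omega) (by omega)
    have : n < n.choose 2 := by
      rw [Nat.choose_two_right, Nat.lt_div_iff_mul_lt' (Nat.even_mul_pred_self n).two_dvd]
      nlinarith [Nat.sub_add_cancel (show 1 ≤ n by omega)]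
    omega

/-- A subgroup of index `n` with an invariant proper non-empty set is a point stabiliser. -/
theorem eq_stabilizer_of_not_isPretransitive (H : Subgroup (Perm α)) (hH : H.index = Fintype.card α)
    (ht : ¬ IsPretransitive H α) : ∃ x : α, H = stabilizer (Perm α) x := by
  classical
  obtain ⟨x, y, hxy⟩ : ∃ x y : α, ¬ ∃ h : H, h • x = y := by
    by_contra h
    push Not at h
    exact ht ⟨fun x y => h x y⟩
  set s : Finset α := Finset.univ.filter fun z => ∃ h : H, h • x = z with hs
  set k := s.card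
  let S : Set.powersetCard α k := ⟨s, rfl⟩
  have hle : H ≤ stabilizer (Perm α) S := by
    intro g hg
    rw [mem_stabilizer_iff]
    apply Subtype.ext
    show g • s = s
    apply Finset.eq_of_subset_of_card_le
    · intro z hz
      rw [Finset.mem_smul_finset] at hz
      obtain ⟨w, hw, rfl⟩ := hz
      obtain ⟨h, rfl⟩ := (Finset.mem_filter.1 hw).2
      exact Finset.mem_filter.2 ⟨Finset.mem_univ _, ⟨g, hg⟩ * h, mul_smul _ _ _⟩
    · rw [Finset.card_smul_finset]
  have hindex : (stabilizer (Perm α) S).index = (Fintype.card α).choose k := by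
    have : IsPretransitive (Perm α) (Set.powersetCard α k) := Set.powersetCard.isPretransitive
    rw [index_stabilizer_of_transitive, Set.powersetCard.card, Nat.card_eq_fintype_card]
  have hdvd := Subgroup.index_dvd_of_le hle
  rw [hH, hindex] at hdvd
  have hn : 0 < Fintype.card α := Fintype.card_pos_iff.2 ⟨x⟩
  have hle2 := Nat.le_of_dvd hn hdvd
  have hx : x ∈ s := Finset.mem_filter.2 ⟨Finset.mem_univ _, 1, one_smul _ _⟩
  have hy : y ∉ s := fun h => hxy (Finset.mem_filter.1 h).2
  have hk0 : 0 < k := Finset.card_pos.2 ⟨x, hx⟩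
  have hkn : k < Fintype.card α := Finset.card_lt_univ_of_notMem hy
  have hk : k = 1 ∨ k + 1 = Fintype.card α := by
    by_contra h
    have := succ_le_choose (n := Fintype.card α) (k := k) (by omega) (by omega)
    omega
  obtain ⟨z, hz⟩ : ∃ z, s = {z} ∨ s = {z}ᶜ := by
    rcases hk with h | h
    · obtain ⟨z, hz⟩ := Finset.card_eq_one.1 h
      exact ⟨z, Or.inl hz⟩
    · obtain ⟨z, hz⟩ := Finset.card_eq_one.1 (show sᶜ.card = 1 by rw [Finset.card_compl]; omega)
      exact ⟨z, Or.inr (by rw [← hz, compl_compl])⟩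
  have hle3 : H ≤ stabilizer (Perm α) z := by
    intro g hg
    rw [mem_stabilizer_iff]
    have hsz : ∀ w, g • w ∈ s ↔ w ∈ s := by
      intro w
      constructor
      · intro hw
        obtain ⟨h, e⟩ := (Finset.mem_filter.1 hw).2
        refine Finset.mem_filter.2 ⟨Finset.mem_univ _, ⟨g, hg⟩⁻¹ * h, ?_⟩
        rw [mul_smul, e, inv_smul_eq_iff]
        rfl
      · intro hw
        obtain ⟨h, e⟩ := (Finset.mem_filter.1 hw).2
        exact Finset.mem_filter.2 ⟨Finset.mem_univ _, ⟨g, hg⟩ * h, by rw [mul_smul, e]; rfl⟩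
    have := hsz z
    rcases hz with h | h <;> simp [h] at this <;> exact this
  refine ⟨z, le_antisymm hle3 ?_⟩
  have h1 : (stabilizer (Perm α) z).index = Fintype.card α := by
    rw [index_stabilizer_of_transitive, Nat.card_eq_fintype_card]
  have hmul := Subgroup.relIndex_mul_index hle3
  rw [h1, hH] at hmul
  exact Subgroup.relIndex_eq_one.1 (Nat.eq_of_mul_eq_mul_right hn (by rw [hmul, one_mul]))

theorem five_le_of_transitive (H : Subgroup (Perm α)) (hH : H.index = Fintype.card α)
    (ht : IsPretransitive H α) (h2 : 2 ≤ Fintype.card α) : 5 ≤ Fintype.card α := by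
  classical
  obtain ⟨x⟩ : Nonempty α := Fintype.card_pos_iff.1 (by omega)
  have h1 : Fintype.card α ∣ Nat.card H := by
    rw [← Nat.card_eq_fintype_card, ← index_stabilizer_of_transitive H x]
    exact Subgroup.index_dvd_card _
  have h3 := H.card_mul_index
  rw [hH, Nat.card_perm, Nat.card_eq_fintype_card (α := α)] at h3
  by_contra h
  interval_cases h4 : Fintype.card α
  all_goals simp only [Nat.factorial] at h3
  all_goals omega

/-- The action on the cosets of a transitive subgroup of index `n`. -/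
theorem exists_coset_iso (H : Subgroup (Perm α)) [DecidableEq (Perm α ⧸ H)] [Fintype (Perm α ⧸ H)]
    (hH : H.index = Fintype.card α) (h5 : 5 ≤ Fintype.card α) :
    ∃ (ψ : Perm α ≃* Perm (Perm α ⧸ H)) (q : Perm α ⧸ H), ∀ g, g ∈ H ↔ ψ g q = q := by
  classical
  let f := MulAction.toPermHom (Perm α) (Perm α ⧸ H)
  have hq : ∀ g, g ∈ H ↔ f g ((1 : Perm α) : Perm α ⧸ H) = ((1 : Perm α) : Perm α ⧸ H) := fun g => by
    conv_lhs => rw [← stabilizer_quotient H]
    rw [mem_stabilizer_iff]
    rfl
  have : Nontrivial α := Fintype.one_lt_card_iff_nontrivial.1 (by omega)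
  have inj : Function.Injective f := by
    rw [← MonoidHom.ker_eq_bot_iff]
    by_contra hne
    have hA : alternatingGroup α ≤ f.ker :=
      Equiv.Perm.alternatingGroup_le_of_normal (by rw [Nat.card_eq_fintype_card]; omega)
        ((Subgroup.nontrivial_iff_ne_bot _).2 hne)
    have hAH : alternatingGroup α ≤ H := fun g hg => (hq g).2 (by rw [MonoidHom.mem_ker.1 (hA hg)]; rfl)
    have := Subgroup.index_dvd_of_le hAH
    rw [hH, alternatingGroup.index_eq_two] at this
    have := Nat.le_of_dvd (by omega) this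
    omega
  have hcard : Nat.card (Perm α) = Nat.card (Perm (Perm α ⧸ H)) := by
    rw [Nat.card_perm, Nat.card_perm, ← Subgroup.index_eq_card, hH, Nat.card_eq_fintype_card]
  exact ⟨MulEquiv.ofBijective f ((Nat.bijective_iff_injective_and_card _).2 ⟨inj, hcard⟩), _, hq⟩

theorem isConj_centralizer_card {G : Type*} [Group G] (a b : G) (h : IsConj a b) :
    Nat.card (Subgroup.centralizer {a}) = Nat.card (Subgroup.centralizer {b}) := by
  obtain ⟨c, rfl⟩ := isConj_iff.1 h
  refine Nat.card_congr ((MulAut.conj c).toEquiv.subtypeEquiv fun x => ?_)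
  simp only [Subgroup.mem_centralizer_singleton_iff]
  constructor
  · intro hx
    show c * x * c⁻¹ * (c * a * c⁻¹) = c * a * c⁻¹ * (c * x * c⁻¹)
    rw [show c * x * c⁻¹ * (c * a * c⁻¹) = c * (x * a) * c⁻¹ by group,
      show c * a * c⁻¹ * (c * x * c⁻¹) = c * (a * x) * c⁻¹ by group, hx]
  · intro (hx : c * x * c⁻¹ * (c * a * c⁻¹) = c * a * c⁻¹ * (c * x * c⁻¹))
    rw [show c * x * c⁻¹ * (c * a * c⁻¹) = c * (x * a) * c⁻¹ by group,
      show c * a * c⁻¹ * (c * x * c⁻¹) = c * (a * x) * c⁻¹ by group] at hx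
    exact mul_left_cancel (mul_right_cancel hx)

theorem equiv_centralizer_card {G K : Type*} [Group G] [Group K] (e : G ≃* K) (a : G) :
    Nat.card (Subgroup.centralizer {a}) = Nat.card (Subgroup.centralizer {e a}) := by
  refine Nat.card_congr (e.toEquiv.subtypeEquiv fun x => ?_)
  simp only [Subgroup.mem_centralizer_singleton_iff]
  constructor
  · intro hx
    show e x * e a = e a * e x
    rw [← map_mul, ← map_mul, hx]
  · intro (hx : e x * e a = e a * e x)
    rw [← map_mul, ← map_mul] at hx
    exact e.injective hx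

theorem centralizer_card_replicate (g : Perm α) (k : ℕ) (hk : 0 < k)
    (hg : g.cycleType = Multiset.replicate k 2) :
    Nat.card (Subgroup.centralizer {g}) = (Fintype.card α - 2 * k)! * 2 ^ k * k ! := by
  rw [Equiv.Perm.nat_card_centralizer, hg, Multiset.sum_replicate, Multiset.prod_replicate,
    smul_eq_mul, Multiset.toFinset_replicate, if_neg (by omega), Finset.prod_singleton,
    Multiset.count_replicate_self, mul_comm k 2]

theorem two_mul_fact_lt : ∀ k, 4 ≤ k → 2 ^ (k - 1) * k ! < (2 * k - 2)! := by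
  intro k hk
  induction k, hk using Nat.le_induction with
  | base => decide
  | succ k hk ih =>
    obtain ⟨j, rfl⟩ : ∃ j, k = j + 4 := ⟨k - 4, by omega⟩
    rw [show 2 * (j + 4 + 1) - 2 = (2 * (j + 4) - 2) + 1 + 1 by omega,
      Nat.factorial_succ (j + 4), Nat.factorial_succ (2 * (j + 4) - 2 + 1),
      Nat.factorial_succ (2 * (j + 4) - 2), show j + 4 + 1 - 1 = (j + 4 - 1) + 1 by omega, pow_succ]
    calc 2 ^ (j + 4 - 1) * 2 * ((j + 4 + 1) * (j + 4)!)
        = (2 * (j + 4 + 1)) * (2 ^ (j + 4 - 1) * (j + 4)!) := by ring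
      _ < (2 * (j + 4 + 1)) * (2 * (j + 4) - 2)! := by
          exact Nat.mul_lt_mul_of_pos_left ih (by omega)
      _ ≤ (2 * (j + 4) - 2 + 1 + 1) * ((2 * (j + 4) - 2 + 1) * (2 * (j + 4) - 2)!) := by
          rw [← mul_assoc]
          apply Nat.mul_le_mul_right
          have : 2 ≤ 2 * (j + 4) - 2 + 1 := by omega
          calc 2 * (j + 4 + 1) ≤ (2 * (j + 4) - 2 + 1 + 1) * 2 := by omega
            _ ≤ _ := Nat.mul_le_mul_left _ this

theorem arith_unique (n k : ℕ) (h2 : 2 ≤ k) (hkn : 2 * k ≤ n)
    (h : 2 * (n - 2)! = (n - 2 * k)! * 2 ^ k * k !) : n = 6 ∧ k = 3 := by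
  obtain ⟨m, rfl⟩ : ∃ m, n = 2 * k + m := ⟨n - 2 * k, by omega⟩
  rw [Nat.add_sub_cancel_left] at h
  rcases Nat.lt_or_ge k 4 with hk | hk
  · interval_cases k
    · -- k = 2
      rw [show 2 * 2 + m - 2 = m + 1 + 1 by omega, Nat.factorial_succ, Nat.factorial_succ] at h
      have hp := Nat.factorial_pos m
      have h' : ((m + 1 + 1) * (m + 1)) * (2 * m !) = 4 * (2 * m !) :=
        calc _ = 2 * ((m + 1 + 1) * ((m + 1) * m !)) := by ring
          _ = _ := h
          _ = _ := by norm_num [Nat.factorial]; ring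
      have := Nat.eq_of_mul_eq_mul_right (by omega) h'
      exfalso
      rcases m with _ | _ | m <;> nlinarith
    · -- k = 3
      refine ⟨?_, rfl⟩
      rw [show 2 * 3 + m - 2 = m + 1 + 1 + 1 + 1 by omega, Nat.factorial_succ, Nat.factorial_succ,
        Nat.factorial_succ, Nat.factorial_succ] at h
      have hp := Nat.factorial_pos m
      have h' : ((m + 1 + 1 + 1 + 1) * ((m + 1 + 1 + 1) * ((m + 1 + 1) * (m + 1)))) * (2 * m !)
          = 24 * (2 * m !) :=
        calc _ = 2 * ((m + 1 + 1 + 1 + 1) * ((m + 1 + 1 + 1) * ((m + 1 + 1) * ((m + 1) * m !)))) := by ring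
          _ = _ := h
          _ = _ := by norm_num [Nat.factorial]; ring
      have := Nat.eq_of_mul_eq_mul_right (by omega) h'
      rcases m with _ | m
      · rfl
      · exfalso; nlinarith [mul_pos (Nat.succ_pos m) (Nat.succ_pos m)]
  · exfalso
    have h1 := two_mul_fact_lt k hk
    have h3 : (2 * k - 2)! * m ! ≤ (2 * k + m - 2)! := by
      rw [show 2 * k + m - 2 = 2 * k - 2 + m by omega]
      exact Nat.le_of_dvd (Nat.factorial_pos _) (Nat.factorial_mul_factorial_dvd_factorial_add _ _)
    have h4 : m ! * 2 ^ k * k ! = 2 * (2 ^ (k - 1) * k ! * m !) := by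
      rw [← mul_assoc 2, ← mul_assoc 2, ← pow_succ', Nat.sub_add_cancel (by omega)]; ring
    have h5 := Nat.mul_lt_mul_of_pos_right h1 (Nat.factorial_pos m)
    omega

/-- The image of a transposition under an isomorphism of symmetric groups of the same degree. -/
theorem image_swap_cases (e : Perm α ≃* Perm β) (hc : Fintype.card α = Fintype.card β)
    (s : Perm α) (hs : s.IsSwap) :
    (e s).IsSwap ∨ (Fintype.card α = 6 ∧ (e s).cycleType = Multiset.replicate 3 2) := by
  have ho : orderOf (e s) = 2 := by rw [e.orderOf_eq, hs.orderOf]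
  obtain ⟨j, hj⟩ := Equiv.Perm.cycleType_prime_order (σ := e s) (by rw [ho]; exact Nat.prime_two)
  rw [ho] at hj
  rcases Nat.eq_zero_or_pos j with rfl | hjp
  · left
    rw [Equiv.Perm.isSwap_iff_cycleType, hj]
    rfl
  · right
    have hb := (e s).sum_cycleType_le
    rw [hj, Multiset.sum_replicate, smul_eq_mul] at hb
    have h := equiv_centralizer_card e s
    rw [centralizer_card_replicate s 1 one_pos (by rw [Equiv.Perm.isSwap_iff_cycleType.1 hs]; rfl),
      centralizer_card_replicate (e s) (j + 1) (by omega) hj, ← hc] at h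
    obtain ⟨h6, h3⟩ := arith_unique (Fintype.card α) (j + 1) (by omega)
      (by rw [hc]; omega) (by rw [← h]; simp [Nat.factorial]; ring)
    exact ⟨h6, h3 ▸ hj⟩

/-- A point stabiliser is generated by the transpositions it contains. -/
theorem stabilizer_eq_closure (q : β) :
    stabilizer (Perm β) q = Subgroup.closure {σ : Perm β | σ.IsSwap ∧ σ q = q} := by
  refine le_antisymm ?_ ((Subgroup.closure_le _).2 fun σ hσ => hσ.2)
  intro g hg
  have hgq : g q = q := hg
  rw [mem_closure_isSwap fun _ h => h.1]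
  refine ⟨Set.toFinite _, fun x => ?_⟩
  by_cases hx : g x = x
  · rw [hx]; exact MulAction.mem_orbit_self x
  · refine ⟨⟨Equiv.swap x (g x), Subgroup.subset_closure ⟨⟨x, g x, Ne.symm hx, rfl⟩, ?_⟩⟩, Equiv.swap_apply_left x (g x)⟩
    refine Equiv.swap_apply_of_ne_of_ne (fun h => hx (by rw [← h, hgq])) fun h => hx ?_
    have : g q = g x := hgq.trans h
    rw [g.injective this] at hgq
    exact hgq

/-- If a subgroup corresponds to a point stabiliser under an isomorphism that maps transpositions onto
transpositions, then it is intransitive. -/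
theorem not_isPretransitive_of_swap (e : Perm α ≃* Perm β) (hsw : ∀ σ : Perm β, σ.IsSwap → (e.symm σ).IsSwap)
    (H : Subgroup (Perm α)) (q : β) (hq : ∀ g, g ∈ H ↔ e g q = q) (hne : H ≠ ⊤) :
    ¬ IsPretransitive H α := by
  intro ht
  have hH : H = Subgroup.closure (e.symm '' {σ : Perm β | σ.IsSwap ∧ σ q = q}) := by
    rw [show (e.symm '' {σ : Perm β | σ.IsSwap ∧ σ q = q}) = e.symm.toMonoidHom '' {σ : Perm β | σ.IsSwap ∧ σ q = q} from rfl,
      ← MonoidHom.map_closure, ← stabilizer_eq_closure]
    ext g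
    rw [hq]
    constructor
    · intro hg
      exact ⟨e g, hg, e.symm_apply_apply g⟩
    · rintro ⟨σ, hσ, rfl⟩
      show e (e.symm σ) q = q
      rw [e.apply_symm_apply]
      exact hσ
  subst hH
  apply hne
  have := ht
  refine closure_of_isSwap_of_isPretransitive ?_
  rintro _ ⟨σ, hσ, rfl⟩
  exact hsw σ hσ.1

end Cfsg.Agent.H98
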